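import Groth.Agent.RegSeqSlice.Scheme
import Groth.Agent.FlatLocus.FibreStalk
import Groth.Agent.AVExtLib.StalkGen
import Groth.Agent.CMCat.Local
import Groth.Agent.S14424
import Groth.Agent.GeomRk.AnyExt
import Groth.Agent.ASp.GeomRedEt
import Groth.Agent.ShriekAlgLib.GradeTensor
import Groth.Agent.DepthTwoExtLib.Basic
import Groth.Prelude.Def_CInt

/-!
# Regular pairs off big open subsets of smooth families
-/

set_option autoImplicit false
set_option linter.style.haveILetI false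
set_option backward.isDefEq.respectTransparency false
universe u

open CategoryTheory CategoryTheory.Limits AlgebraicGeometry IsLocalRing RingTheory.Sequence

noncomputable section

namespace Groth.Agent.RhoShLib

variable {Z S : Scheme.{u}} (f : Z ⟶ S) [Smooth f]

theorem isRegularLocalRing_fibre (s : S) (z : f.fiber s) : IsRegularLocalRing ((f.fiber s).presheaf.stalk z) := by
  haveI : Smooth (f.fiberToSpecResidueField s) := MorphismProperty.pullback_snd (P := @Smooth) _ _ inferInstance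
  exact ASp.isRegularLocalRing_stalk_of_smooth_field (k := S.residueField s) (f.fiberToSpecResidueField s) z

/-- A pair regular on the fibre extends to a pair regular at all nearby points. -/
theorem exists_regular_nhd (s : S) (z : f.fiber s) (a b : Z.presheaf.stalk (f.fiberι s z))
    (ha : a ∈ maximalIdeal (Z.presheaf.stalk (f.fiberι s z))) (hb : b ∈ maximalIdeal (Z.presheaf.stalk (f.fiberι s z)))
    (hreg : IsWeaklyRegular ((f.fiber s).presheaf.stalk z)
      [(f.fiberι s).stalkMap z a, (f.fiberι s).stalkMap z b]) :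
    ∃ (V : Z.Opens) (_ : IsAffineOpen V) (hz : f.fiberι s z ∈ V) (A B : Γ(Z, V)),
      Z.presheaf.germ V _ hz A = a ∧ Z.presheaf.germ V _ hz B = b ∧
      ∀ (y : Z) (hy : y ∈ V), IsWeaklyRegular (Z.presheaf.stalk y)
        [Z.presheaf.germ V y hy A, Z.presheaf.germ V y hy B] := by
  let m := (maximalIdeal (S.presheaf.stalk (f (f.fiberι s z)))).map (f.stalkMap (f.fiberι s z)).hom
  let π := ((f.fiberι s).stalkMap z).hom
  let e : (Z.presheaf.stalk (f.fiberι s z) ⧸ m) ≃+* (f.fiber s).presheaf.stalk z :=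
    (Ideal.quotEquivOfEq (FlatLocus.ker_fiberι_stalkMap f s z).symm).trans
      (RingHom.quotientKerEquivOfSurjective (f := π) (FlatLocus.fiberι_stalkMap_surjective f s z))
  have he : ∀ c, e (Ideal.Quotient.mk m c) = π c := fun c => rfl
  have hr : IsWeaklyRegular (Z.presheaf.stalk (f.fiberι s z) ⧸ m)
      (List.ofFn fun i => Ideal.Quotient.mk m (![a, b] i)) := by
    rw [show (List.ofFn fun i => Ideal.Quotient.mk m (![a, b] i)) = [Ideal.Quotient.mk m a, Ideal.Quotient.mk m b] from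
      by simp [List.ofFn_succ]]
    refine ((AddEquiv.isWeaklyRegular_congr (e := e.toAddEquiv) ?_).2 hreg)
    exact List.Forall₂.cons (fun x => (map_mul e _ x).trans (congrArg (· * e x) (he a)))
      (List.Forall₂.cons (fun x => (map_mul e _ x).trans (congrArg (· * e x) (he b))) List.Forall₂.nil)
  obtain ⟨U, hU, hxU, c, hc, hwr, -⟩ := RegSeqSlice.exists_regular_slice f _ (Flat.stalkMap f _) ![a, b]
    (fun i => by fin_cases i; exacts [ha, hb]) hr
  refine ⟨U, hU, hxU, c 0, c 1, hc 0, hc 1, fun y hy => ?_⟩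
  letI := TopCat.Presheaf.algebra_section_stalk Z.presheaf ⟨y, hy⟩
  haveI := hU.isLocalization_stalk ⟨y, hy⟩
  haveI : Module.Flat Γ(Z, U) (Z.presheaf.stalk y) :=
    IsLocalization.flat _ (hU.primeIdealOf ⟨y, hy⟩).asIdeal.primeCompl
  have h := hwr.of_flat (S := Z.presheaf.stalk y)
  rw [show List.ofFn c = [c 0, c 1] from by simp [List.ofFn_succ]] at h
  exact h

theorem exists_list_of_two_le {R : Type u} [CommRing R] [IsRegularLocalRing R] (I : Ideal R) (hI : I ≠ ⊤)
    (h : ∀ (P : Ideal R) [P.IsPrime], I ≤ P → 2 ≤ P.height) :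
    ∃ a b : R, a ∈ I ∧ b ∈ I ∧ IsWeaklyRegular R [a, b] := by
  haveI : LocCoh.IsCohenMacaulayLocalRing R := GorLib.isCohenMacaulay R (GorLib.gorensteinLocal_of_regular R)
  have hh : (2 : ℕ∞) ≤ LocCoh.idealDepth I R := by
    rw [(S14424.result R).1 CMCat.isCohenMacaulayRing_of_local I hI, Ideal.height_eq_inf_minimalPrimes]
    refine le_iInf₂ fun P hP => ?_
    haveI := hP.1.1
    exact h P hP.1.2
  obtain ⟨rs, hlen, hmem, hreg⟩ := ShriekAlgLib.exists_isWeaklyRegular_of_le_idealDepth I R 2 (by exact_mod_cast hh)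
  match rs, hlen with
  | [a, b], _ => exact ⟨a, b, hmem a (by simp), hmem b (by simp), hreg⟩

theorem depth_two_le {R : Type u} [CommRing R] [IsLocalRing R] {a b : R} (ha : a ∈ maximalIdeal R)
    (hb : b ∈ maximalIdeal R) (h : IsWeaklyRegular R [a, b]) : (2 : ℕ∞) ≤ LocCoh.depth R R := by
  rw [LocCoh.depth, LocCoh.idealDepth]
  split_ifs
  · exact le_top
  · refine le_trans ?_ (le_iSup₂ (f := fun (rs : List R) (_ : IsWeaklyRegular R rs ∧ ∀ r ∈ rs, r ∈ maximalIdeal R) =>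
      (rs.length : ℕ∞)) [a, b] ⟨h, by simp only [List.mem_cons, List.not_mem_nil, or_false]; rintro r (rfl | rfl); exacts [ha, hb]⟩)
    simp

theorem two_le_dim_of_fiberι {y : Z} {s : S} (hys : f y = s) {z : f.fiber s} (hz : f.fiberι s z = y)
    (h : (2 : WithBot ℕ∞) ≤ ringKrullDim ↑(CInt.fiberStalk f y)) :
    (2 : WithBot ℕ∞) ≤ ringKrullDim ↑((f.fiber s).presheaf.stalk z) := by
  subst hys
  obtain rfl : z = f.asFiber y := (f.fiberι _).isEmbedding.injective (hz.trans (f.fiberι_asFiber y).symm)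
  exact h

theorem apply_fiberι (s : S) (z : f.fiber s) : f (f.fiberι s z) = s := by
  have : f.fiberι s z ∈ f ⁻¹' {s} := by rw [← f.range_fiberι s]; exact ⟨z, rfl⟩
  exact this

/-- Depth at points where the fibre has dimension at least two. -/
theorem two_le_depth_fibre (s : S) (z : f.fiber s) (hz : (2 : WithBot ℕ∞) ≤ ringKrullDim ((f.fiber s).presheaf.stalk z)) :
    (2 : ℕ∞) ≤ LocCoh.depth (Z.presheaf.stalk (f.fiberι s z)) (Z.presheaf.stalk (f.fiberι s z)) := by
  haveI := isRegularLocalRing_fibre f s z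
  obtain ⟨a, b, ha, hb, hab⟩ := exists_list_of_two_le (maximalIdeal ((f.fiber s).presheaf.stalk z))
    (maximalIdeal.isMaximal _).ne_top fun P hP hle => by
      obtain rfl : P = maximalIdeal _ := ((maximalIdeal.isMaximal _).eq_of_le hP.ne_top hle).symm
      rw [← maximalIdeal_height_eq_ringKrullDim] at hz
      exact WithBot.coe_le_coe.1 hz
  obtain ⟨a', rfl⟩ := FlatLocus.fiberι_stalkMap_surjective f s z a
  obtain ⟨b', rfl⟩ := FlatLocus.fiberι_stalkMap_surjective f s z b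
  have ha' := mt (IsUnit.map ((f.fiberι s).stalkMap z).hom) ((mem_maximalIdeal _).1 ha)
  have hb' := mt (IsUnit.map ((f.fiberι s).stalkMap z).hom) ((mem_maximalIdeal _).1 hb)
  obtain ⟨V, -, hzV, A, B, hA, hB, hreg⟩ := exists_regular_nhd f s z a' b' ((mem_maximalIdeal _).2 ha')
    ((mem_maximalIdeal _).2 hb') hab
  have h := hreg _ hzV
  rw [hA, hB] at h
  exact depth_two_le ((mem_maximalIdeal _).2 ha') ((mem_maximalIdeal _).2 hb') h

variable (U : Z.Opens) (hU : ∀ x : Z, x ∉ U → (2 : WithBot ℕ∞) ≤ ringKrullDim ↑(CInt.fiberStalk f x))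

include hU in
/-- Off a big open, there are regular pairs supported on the complement. -/
theorem exists_chart (x : Z) (hx : x ∉ U) (W : Z.Opens) (hxW : x ∈ W) :
    ∃ (V : Z.Opens) (_ : IsAffineOpen V) (_ : x ∈ V) (_ : V ≤ W) (A B : Γ(Z, V)),
      Z.basicOpen A ≤ U ∧ Z.basicOpen B ≤ U ∧
      ∀ (y : Z) (hy : y ∈ V), IsWeaklyRegular (Z.presheaf.stalk y)
        [Z.presheaf.germ V y hy A, Z.presheaf.germ V y hy B] := by
  obtain ⟨s, z, rfl⟩ : ∃ (s : S) (z : f.fiber s), f.fiberι s z = x := ⟨_, f.asFiber x, f.fiberι_asFiber x⟩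
  haveI := isRegularLocalRing_fibre f s z
  obtain ⟨V₀, hV₀, hxV₀, hVW⟩ := exists_isAffineOpen_mem_and_subset (X := Z) (x := f.fiberι s z) (U := W) hxW
  let π := ((f.fiberι s).stalkMap z).hom
  let γ : Γ(Z, V₀) →+* (f.fiber s).presheaf.stalk z := π.comp (Z.presheaf.germ V₀ _ hxV₀).hom
  let T : Set Γ(Z, V₀) := {a | Z.basicOpen a ≤ U}
  have hT : ∀ r ∈ T, Z.presheaf.germ V₀ _ hxV₀ r ∈ maximalIdeal (Z.presheaf.stalk (f.fiberι s z)) := fun r hr =>
    (mem_maximalIdeal _).2 fun hu => hx (hr ((Z.mem_basicOpen r _ hxV₀).2 hu))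
  let I : Ideal ((f.fiber s).presheaf.stalk z) := Ideal.span (γ '' T)
  have hIm : I ≤ maximalIdeal _ := Ideal.span_le.2 (by
    rintro _ ⟨r, hr, rfl⟩
    refine (mem_maximalIdeal _).2 fun hu => ?_
    exact (mem_maximalIdeal _).1 (hT r hr) ((isUnit_map_iff π _).1 hu))
  obtain ⟨a, b, ha, hb, hab⟩ := exists_list_of_two_le I (fun h => (maximalIdeal.isMaximal _).ne_top (top_le_iff.1 (h ▸ hIm)))
    fun P hP hle => by
      let w := (f.fiber s).fromSpecStalk z ⟨P, hP⟩
      have hwz : w ⤳ z := AVExtLib.specializes_fromSpecStalk z ⟨P, hP⟩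
      have hwV : f.fiberι s w ∈ V₀ := (hwz.map (f.fiberι s).continuous).mem_open V₀.2 hxV₀
      letI := ((f.fiber s).presheaf.stalkSpecializes hwz).hom.toAlgebra
      haveI : IsLocalization.AtPrime ((f.fiber s).presheaf.stalk w) P :=
        AVExtLib.isLocalization_fromSpecStalk z ⟨P, hP⟩ rfl hwz
      have hwU : f.fiberι s w ∉ U := fun hwU => by
        obtain ⟨r, hr, hwr⟩ := hV₀.exists_basicOpen_le ⟨_, hwU⟩ hwV
        have hu := (Z.mem_basicOpen r _ hwV).1 hwr
        have h1 := hu.map ((f.fiberι s).stalkMap w).hom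
        have hP' : γ r ∈ P := hle (Ideal.subset_span ⟨r, hr, rfl⟩)
        rw [← IsLocalization.AtPrime.to_map_mem_maximal_iff ((f.fiber s).presheaf.stalk w) P] at hP'
        refine (mem_maximalIdeal _).1 hP' ?_
        convert h1 using 1
        show (f.fiber s).presheaf.stalkSpecializes hwz ((f.fiberι s).stalkMap z (Z.presheaf.germ V₀ _ hxV₀ r)) = _
        rw [Scheme.Hom.germ_stalkMap_apply, TopCat.Presheaf.germ_stalkSpecializes_apply]
        exact (Scheme.Hom.germ_stalkMap_apply (f.fiberι s) V₀ w hwV r).symm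
      have h2 := two_le_dim_of_fiberι f (apply_fiberι f s w) rfl (hU _ hwU)
      rw [IsLocalization.AtPrime.ringKrullDim_eq_height P] at h2
      exact WithBot.coe_le_coe.1 h2
  letI := TopCat.Presheaf.algebra_section_stalk Z.presheaf ⟨f.fiberι s z, hxV₀⟩
  haveI := hV₀.isLocalization_stalk ⟨f.fiberι s z, hxV₀⟩
  let J : Ideal (Z.presheaf.stalk (f.fiberι s z)) := (Ideal.span T).map (Z.presheaf.germ V₀ _ hxV₀).hom
  have hIJ : I = J.map π := by
    show Ideal.span (γ '' T) = ((Ideal.span T).map _).map π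
    rw [Ideal.map_map, Ideal.map_span]
  rw [hIJ, Ideal.mem_map_iff_of_surjective π (FlatLocus.fiberι_stalkMap_surjective f s z)] at ha hb
  obtain ⟨a', ha', rfl⟩ := ha
  obtain ⟨b', hb', rfl⟩ := hb
  have hJm : J ≤ maximalIdeal _ := Ideal.map_le_iff_le_comap.2 (Ideal.span_le.2 hT)
  obtain ⟨V, -, hxV, A, B, hA, hB, hreg⟩ := exists_regular_nhd f s z a' b' (hJm ha') (hJm hb') hab
  have hD : ∀ c ∈ Ideal.span T, Z.basicOpen c ≤ U := fun c hc y hy => by
    by_contra hyU
    have hyV : y ∈ V₀ := Z.basicOpen_le c hy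
    have h1 : Ideal.span T ≤ (maximalIdeal (Z.presheaf.stalk y)).comap (Z.presheaf.germ V₀ y hyV).hom :=
      Ideal.span_le.2 fun r hr => (mem_maximalIdeal _).2 fun hu => hyU (hr ((Z.mem_basicOpen r y hyV).2 hu))
    exact (mem_maximalIdeal _).1 (h1 hc) ((Z.mem_basicOpen c y hyV).1 hy)
  have hnear : ∀ (C : Γ(Z, V)) (c : Z.presheaf.stalk (f.fiberι s z)), Z.presheaf.germ V _ hxV C = c → c ∈ J →
      ∃ (V₁ : Z.Opens) (h : V₁ ≤ V), f.fiberι s z ∈ V₁ ∧ Z.basicOpen (Z.presheaf.map (homOfLE h).op C) ≤ U := by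
    intro C c hC hc
    obtain ⟨⟨⟨c₀, hc₀⟩, t⟩, ht⟩ := (IsLocalization.mem_map_algebraMap_iff
      (hV₀.primeIdealOf ⟨f.fiberι s z, hxV₀⟩).asIdeal.primeCompl _).1 hc
    have heq : Z.presheaf.germ (V ⊓ V₀) (f.fiberι s z) ⟨hxV, hxV₀⟩
        (Z.presheaf.map (homOfLE inf_le_left).op C * Z.presheaf.map (homOfLE inf_le_right).op t.1) =
        Z.presheaf.germ (V ⊓ V₀) (f.fiberι s z) ⟨hxV, hxV₀⟩ (Z.presheaf.map (homOfLE inf_le_right).op c₀) := by
      rw [map_mul, Z.presheaf.germ_res_apply, Z.presheaf.germ_res_apply, Z.presheaf.germ_res_apply, hC]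
      exact ht
    obtain ⟨W₁, hxW₁, i₁, i₂, he⟩ := TopCat.Presheaf.germ_eq _ _ _ _ _ _ heq
    have htx : f.fiberι s z ∈ Z.basicOpen t.1 :=
      (Z.mem_basicOpen t.1 _ hxV₀).2 (IsLocalization.map_units (Z.presheaf.stalk (f.fiberι s z)) t)
    refine ⟨W₁ ⊓ Z.basicOpen t.1, inf_le_left.trans (i₁.le.trans inf_le_left), ⟨hxW₁, htx⟩, fun y hy => ?_⟩
    have hyW := Z.basicOpen_le _ hy
    obtain ⟨hyW₁, hyt⟩ := id hyW
    have hyV : y ∈ V := (i₁.le hyW₁).1
    have hyV₀ : y ∈ V₀ := (i₁.le hyW₁).2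
    refine hD c₀ hc₀ ((Z.mem_basicOpen c₀ y hyV₀).2 ?_)
    have h1 := congrArg (Z.presheaf.germ W₁ y hyW₁) he
    rw [Z.presheaf.germ_res_apply, Z.presheaf.germ_res_apply, map_mul, Z.presheaf.germ_res_apply,
      Z.presheaf.germ_res_apply, Z.presheaf.germ_res_apply] at h1
    rw [← h1]
    have hu := (Z.mem_basicOpen _ y hyW).1 hy
    rw [Z.presheaf.germ_res_apply] at hu
    exact hu.mul ((Z.mem_basicOpen t.1 y hyV₀).1 hyt)
  obtain ⟨V₁, h₁, hxV₁, hA₁⟩ := hnear A a' hA ha'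
  obtain ⟨V₂, h₂, hxV₂, hB₂⟩ := hnear B b' hB hb'
  obtain ⟨V', hV', hxV', hle⟩ := exists_isAffineOpen_mem_and_subset (X := Z) (x := f.fiberι s z)
    (U := V₁ ⊓ V₂ ⊓ W) ⟨⟨hxV₁, hxV₂⟩, hxW⟩
  have hl₁ : V' ≤ V₁ := fun y hy => (hle hy).1.1
  have hl₂ : V' ≤ V₂ := fun y hy => (hle hy).1.2
  refine ⟨V', hV', hxV', fun y hy => (hle hy).2, Z.presheaf.map (homOfLE (hl₁.trans h₁)).op A,
    Z.presheaf.map (homOfLE (hl₂.trans h₂)).op B, fun y hy => hA₁ ?_, fun y hy => hB₂ ?_, fun y hy => ?_⟩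
  · have hyV' := Z.basicOpen_le _ hy
    rw [Z.mem_basicOpen _ y hyV', Z.presheaf.germ_res_apply] at hy
    rwa [Z.mem_basicOpen _ y (hl₁ hyV'), Z.presheaf.germ_res_apply]
  · have hyV' := Z.basicOpen_le _ hy
    rw [Z.mem_basicOpen _ y hyV', Z.presheaf.germ_res_apply] at hy
    rwa [Z.mem_basicOpen _ y (hl₂ hyV'), Z.presheaf.germ_res_apply]
  · rw [Z.presheaf.germ_res_apply, Z.presheaf.germ_res_apply]
    exact hreg y (h₁ (hl₁ hy))

end Groth.Agent.RhoShLib
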