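import Mathlib

/-!
# Sections of affine morphisms extend when functions do
-/

set_option linter.style.haveILetI false
universe u

open CategoryTheory CategoryTheory.Limits AlgebraicGeometry

namespace Groth.Agent.RhoShLib

variable {X : Scheme.{u}}

theorem isIso_homOfLE_appTop (U : X.Opens) (hbij : ∀ V : X.Opens, Function.Bijective (X.presheaf.map (homOfLE (inf_le_left : V ⊓ U ≤ V)).op))
    {V : X.Opens} :
    IsIso (X.homOfLE (inf_le_left : V ⊓ U ≤ V)).appTop := by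
  haveI : IsIso (X.presheaf.map (homOfLE (inf_le_left : V ⊓ U ≤ V)).op) :=
    (ConcreteCategory.isIso_iff_bijective _).2 (hbij V)
  rw [Scheme.homOfLE_appTop]
  have hfac : ∀ (A A' B B' : X.Opens) (h : A' ≤ A) (hB : B = A) (hB' : B' = A') (k : B' ⟶ B),
      IsIso (X.presheaf.map (homOfLE h).op) → IsIso (X.presheaf.map k.op) := by
    rintro A A' B B' h rfl rfl k hi
    rwa [Subsingleton.elim k (homOfLE h)]
  exact hfac _ _ _ _ inf_le_left V.ι_image_top (V ⊓ U).ι_image_top _ inferInstance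

theorem existsUnique_extend (U : X.Opens) (hbij : ∀ V : X.Opens, Function.Bijective (X.presheaf.map (homOfLE (inf_le_left : V ⊓ U ≤ V)).op))
    (Y : Scheme.{u}) (f : Y ⟶ X) [IsAffineHom f]
    (t : (U : Scheme.{u}) ⟶ Y) (ht : t ≫ f = U.ι) :
    ∃! s : X ⟶ Y, s ≫ f = 𝟙 X ∧ U.ι ≫ s = t := by
  have lands : ∀ {W : Scheme.{u}} (V : X.Opens) (a : W ⟶ Y) (j : W ⟶ (V : Scheme.{u})),
      a ≫ f = j ≫ V.ι → Set.range a ⊆ Set.range (f ⁻¹ᵁ V).ι := by
    intro W V a j h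
    rintro _ ⟨w, rfl⟩
    rw [Scheme.Opens.range_ι]
    show f (a w) ∈ V
    rw [← Scheme.Hom.comp_apply, h, Scheme.Hom.comp_apply]
    exact (j w).2
  -- uniqueness on affine opens
  have uniq : ∀ (V : X.Opens), IsAffineOpen V → ∀ a b : (V : Scheme.{u}) ⟶ Y,
      a ≫ f = V.ι → b ≫ f = V.ι →
      X.homOfLE (inf_le_left : V ⊓ U ≤ V) ≫ a = X.homOfLE (inf_le_left : V ⊓ U ≤ V) ≫ b → a = b := by
    intro V hV a b ha hb hab
    haveI := isIso_homOfLE_appTop U hbij (V := V)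
    haveI : IsAffine (f ⁻¹ᵁ V : Scheme.{u}) := hV.preimage f
    rw [← IsOpenImmersion.lift_fac (f ⁻¹ᵁ V).ι a (lands V a (𝟙 _) (by simpa using ha)),
      ← IsOpenImmersion.lift_fac (f ⁻¹ᵁ V).ι b (lands V b (𝟙 _) (by simpa using hb))]
    congr 1
    refine ext_of_isAffine ?_
    have h2 : X.homOfLE (inf_le_left : V ⊓ U ≤ V) ≫ IsOpenImmersion.lift (f ⁻¹ᵁ V).ι a (lands V a (𝟙 _) (by simpa using ha)) =
        X.homOfLE (inf_le_left : V ⊓ U ≤ V) ≫ IsOpenImmersion.lift (f ⁻¹ᵁ V).ι b (lands V b (𝟙 _) (by simpa using hb)) := by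
      rw [← cancel_mono (f ⁻¹ᵁ V).ι]
      simpa using hab
    have := congrArg Scheme.Hom.appTop h2
    rw [Scheme.Hom.comp_appTop, Scheme.Hom.comp_appTop] at this
    exact (cancel_mono _).1 this
  have uniq' : ∀ (W : X.Opens) (a b : (W : Scheme.{u}) ⟶ Y), a ≫ f = W.ι → b ≫ f = W.ι →
      X.homOfLE (inf_le_left : W ⊓ U ≤ W) ≫ a = X.homOfLE (inf_le_left : W ⊓ U ≤ W) ≫ b → a = b := by
    intro W a b ha hb hab
    have hcover : TopologicalSpace.IsOpenCover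
        (fun V : {V : X.affineOpens // V.1 ≤ W} => W.ι ⁻¹ᵁ V.1.1) := by
      rw [TopologicalSpace.IsOpenCover]
      refine eq_top_iff.2 fun x _ => ?_
      obtain ⟨V, hV, hxV, hVW⟩ := TopologicalSpace.Opens.isBasis_iff_nbhd.1 X.isBasis_affineOpens x.2
      exact TopologicalSpace.Opens.mem_iSup.2 ⟨⟨⟨V, hV⟩, hVW⟩, hxV⟩
    refine ((W : Scheme.{u}).openCoverOfIsOpenCover _ hcover).hom_ext _ _ fun V => ?_
    obtain ⟨⟨V, hV⟩, hVW⟩ := V
    have key : X.homOfLE hVW ≫ a = X.homOfLE hVW ≫ b := by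
      refine uniq V hV _ _ (by rw [Category.assoc, ha, Scheme.homOfLE_ι])
        (by rw [Category.assoc, hb, Scheme.homOfLE_ι]) ?_
      rw [Scheme.homOfLE_homOfLE_assoc, Scheme.homOfLE_homOfLE_assoc]
      have := congrArg (fun q => X.homOfLE (inf_le_inf_right U hVW : V ⊓ U ≤ W ⊓ U) ≫ q) hab
      simpa [Scheme.homOfLE_homOfLE_assoc] using this
    show (W.ι ⁻¹ᵁ V).ι ≫ a = (W.ι ⁻¹ᵁ V).ι ≫ b
    have hfac : ∃ q : (W.ι ⁻¹ᵁ V).toScheme ⟶ (V : Scheme.{u}), q ≫ X.homOfLE hVW = (W.ι ⁻¹ᵁ V).ι := by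
      refine ⟨IsOpenImmersion.lift V.ι ((W.ι ⁻¹ᵁ V).ι ≫ W.ι) ?_, ?_⟩
      · rintro _ ⟨w, rfl⟩
        rw [Scheme.Opens.range_ι]
        exact w.2
      · rw [← cancel_mono W.ι, Category.assoc, Scheme.homOfLE_ι, IsOpenImmersion.lift_fac]
    obtain ⟨q, hq⟩ := hfac
    rw [← hq, Category.assoc, Category.assoc, key]
  -- existence on affine opens
  have ex : ∀ V : X.affineOpens, ∃ s : (V.1 : Scheme.{u}) ⟶ Y, s ≫ f = V.1.ι ∧
      X.homOfLE (inf_le_left : V.1 ⊓ U ≤ V.1) ≫ s = X.homOfLE (inf_le_right : V.1 ⊓ U ≤ U) ≫ t := by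
    rintro ⟨V, hV⟩
    haveI := isIso_homOfLE_appTop U hbij (V := V)
    haveI : IsAffine (f ⁻¹ᵁ V : Scheme.{u}) := hV.preimage f
    let j := X.homOfLE (inf_le_left : V ⊓ U ≤ V)
    let g' := IsOpenImmersion.lift (f ⁻¹ᵁ V).ι (X.homOfLE (inf_le_right : V ⊓ U ≤ U) ≫ t)
      (lands V _ j (by rw [Category.assoc, ht, Scheme.homOfLE_ι, Scheme.homOfLE_ι]))
    let g : (V : Scheme.{u}) ⟶ (f ⁻¹ᵁ V : Scheme.{u}) :=
      (V : Scheme.{u}).toSpecΓ ≫ Spec.map (g'.appTop ≫ inv j.appTop) ≫ (f ⁻¹ᵁ V).toScheme.isoSpec.inv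
    have hg : j ≫ g = g' := by
      show j ≫ _ ≫ _ = _
      rw [Scheme.toSpecΓ_naturality_assoc, ← Spec.map_comp_assoc, Category.assoc, IsIso.inv_hom_id,
        Category.comp_id, ← Scheme.toSpecΓ_naturality_assoc]
      simp [Scheme.isoSpec]
    refine ⟨g ≫ (f ⁻¹ᵁ V).ι, ?_, ?_⟩
    · haveI : IsAffine (V : Scheme.{u}) := hV
      rw [Category.assoc, ← morphismRestrict_ι]
      have : g ≫ f ∣_ V = 𝟙 _ := by
        refine ext_of_isAffine ?_
        have h2 : j ≫ g ≫ f ∣_ V = j ≫ 𝟙 _ := by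
          rw [← cancel_mono V.ι, ← Category.assoc j, hg, Category.assoc, morphismRestrict_ι,
            IsOpenImmersion.lift_fac_assoc, Category.assoc, ht, Category.comp_id, Scheme.homOfLE_ι,
            Scheme.homOfLE_ι]
        have := congrArg Scheme.Hom.appTop h2
        rw [Scheme.Hom.comp_appTop, Scheme.Hom.comp_appTop] at this
        exact (cancel_mono _).1 this
      rw [← Category.assoc, this, Category.id_comp]
    · rw [← Category.assoc, hg, IsOpenImmersion.lift_fac]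
  choose s hsf hst using ex
  let 𝒰 := X.openCoverOfIsOpenCover (fun V : X.affineOpens => V.1) (iSup_affineOpens_eq_top X)
  have hglue : ∀ V V' : X.affineOpens, pullback.fst V.1.ι V'.1.ι ≫ s V = pullback.snd _ _ ≫ s V' := by
    intro V V'
    let W := V.1 ⊓ V'.1
    let q : pullback V.1.ι V'.1.ι ⟶ (W : Scheme.{u}) := IsOpenImmersion.lift W.ι (pullback.fst _ _ ≫ V.1.ι) (by
      rintro _ ⟨w, rfl⟩
      rw [Scheme.Opens.range_ι]
      refine ⟨(pullback.fst V.1.ι V'.1.ι w).2, ?_⟩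
      rw [pullback.condition]
      exact (pullback.snd V.1.ι V'.1.ι w).2)
    have hq1 : q ≫ X.homOfLE (inf_le_left : W ≤ V.1) = pullback.fst _ _ := by
      rw [← cancel_mono V.1.ι, Category.assoc, Scheme.homOfLE_ι, IsOpenImmersion.lift_fac]
    have hq2 : q ≫ X.homOfLE (inf_le_right : W ≤ V'.1) = pullback.snd _ _ := by
      rw [← cancel_mono V'.1.ι, Category.assoc, Scheme.homOfLE_ι, IsOpenImmersion.lift_fac, pullback.condition]
    rw [← hq1, ← hq2, Category.assoc, Category.assoc]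
    congr 1
    refine uniq' W _ _ (by rw [Category.assoc, hsf, Scheme.homOfLE_ι])
      (by rw [Category.assoc, hsf, Scheme.homOfLE_ι]) ?_
    have h1 := congrArg (fun m => X.homOfLE (inf_le_inf_right U inf_le_left : W ⊓ U ≤ V.1 ⊓ U) ≫ m) (hst V)
    have h2 := congrArg (fun m => X.homOfLE (inf_le_inf_right U inf_le_right : W ⊓ U ≤ V'.1 ⊓ U) ≫ m) (hst V')
    simp only [Scheme.homOfLE_homOfLE_assoc] at h1 h2 ⊢
    rw [h1, h2]
  let S : X ⟶ Y := 𝒰.glueMorphisms s hglue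
  have hS : ∀ V : X.affineOpens, V.1.ι ≫ S = s V := fun V => 𝒰.ι_glueMorphisms s hglue V
  refine ⟨S, ⟨?_, ?_⟩, ?_⟩
  · refine 𝒰.hom_ext _ _ fun V => ?_
    show V.1.ι ≫ S ≫ f = V.1.ι ≫ 𝟙 X
    rw [← Category.assoc, hS, hsf, Category.comp_id]
  · have hcover : TopologicalSpace.IsOpenCover (fun V : X.affineOpens => U.ι ⁻¹ᵁ V.1) := by
      rw [TopologicalSpace.IsOpenCover, eq_top_iff]
      intro x _
      obtain ⟨V, hxV⟩ := TopologicalSpace.Opens.mem_iSup.1 ((iSup_affineOpens_eq_top X).ge (show x.1 ∈ (⊤ : X.Opens) from trivial))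
      exact TopologicalSpace.Opens.mem_iSup.2 ⟨V, hxV⟩
    refine ((U : Scheme.{u}).openCoverOfIsOpenCover _ hcover).hom_ext _ _ fun V => ?_
    show (U.ι ⁻¹ᵁ V.1).ι ≫ U.ι ≫ S = (U.ι ⁻¹ᵁ V.1).ι ≫ t
    let q : (U.ι ⁻¹ᵁ V.1).toScheme ⟶ (V.1 ⊓ U : X.Opens).toScheme :=
      IsOpenImmersion.lift (V.1 ⊓ U).ι ((U.ι ⁻¹ᵁ V.1).ι ≫ U.ι) (by
        rintro _ ⟨w, rfl⟩
        rw [Scheme.Opens.range_ι]
        exact ⟨w.2, ((U.ι ⁻¹ᵁ V.1).ι w).2⟩)
    have hq : q ≫ (V.1 ⊓ U).ι = (U.ι ⁻¹ᵁ V.1).ι ≫ U.ι := IsOpenImmersion.lift_fac _ _ _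
    have hq2 : q ≫ X.homOfLE (inf_le_right : V.1 ⊓ U ≤ U) = (U.ι ⁻¹ᵁ V.1).ι := by
      rw [← cancel_mono U.ι, Category.assoc, Scheme.homOfLE_ι, hq]
    rw [← Category.assoc, ← hq, ← X.homOfLE_ι (inf_le_left : V.1 ⊓ U ≤ V.1), Category.assoc, Category.assoc,
      hS, hst, ← Category.assoc, hq2]
  · rintro S' ⟨hS'f, hS't⟩
    refine 𝒰.hom_ext _ _ fun V => ?_
    show V.1.ι ≫ S' = V.1.ι ≫ S
    rw [hS]
    refine uniq V.1 V.2 _ _ (by rw [Category.assoc, hS'f, Category.comp_id]) (hsf V) ?_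
    rw [hst, Scheme.homOfLE_ι_assoc, ← hS't, Scheme.homOfLE_ι_assoc]


end Groth.Agent.RhoShLib
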