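import Groth.Agent.RhoShLib.Depth

/-!
# Sections extend uniquely across the complement of a big open
-/

set_option autoImplicit false
set_option linter.style.haveILetI false
set_option backward.isDefEq.respectTransparency false
universe u

open CategoryTheory CategoryTheory.Limits AlgebraicGeometry IsLocalRing RingTheory.Sequence TopologicalSpace Opposite

noncomputable section

namespace Groth.Agent.RhoShLib

variable {Z S : Scheme.{u}}

/-- A section killed away from an everywhere regular function is zero. -/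
theorem eq_zero_of_basicOpen {V : Z.Opens} (A : Γ(Z, V))
    (hA : ∀ (y : Z) (hy : y ∈ V), IsSMulRegular (Z.presheaf.stalk y) (Z.presheaf.germ V y hy A))
    {W : Z.Opens} (hWV : W ≤ V) (h : Γ(Z, W)) {D : Z.Opens} (hD : D = W ⊓ Z.basicOpen A)
    (h0 : Z.presheaf.map (homOfLE (hD.le.trans inf_le_left : D ≤ W)).op h = 0) : h = 0 := by
  refine TopCat.Presheaf.section_ext Z.sheaf W h 0 fun y hy => ?_
  show Z.presheaf.germ W y hy h = Z.presheaf.germ W y hy 0
  rw [map_zero]
  obtain ⟨W', hW', hyW', hle0⟩ := exists_isAffineOpen_mem_and_subset (X := Z) (x := y) (U := W) hy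
  have hle : W' ≤ W := hle0
  let A' := Z.presheaf.map (homOfLE (hle.trans hWV : W' ≤ V)).op A
  haveI := hW'.isLocalization_basicOpen A'
  have hle' : Z.basicOpen A' ≤ D := by
    rw [hD, Scheme.basicOpen_res]
    exact fun z hz => ⟨hle hz.1, hz.2⟩
  have h1 : algebraMap Γ(Z, W') Γ(Z, Z.basicOpen A') (Z.presheaf.map (homOfLE hle).op h) = 0 := by
    show (Z.presheaf.map _ ≫ Z.presheaf.map _) h = 0
    rw [← Functor.map_comp]
    have h2 := congrArg (Z.presheaf.map (homOfLE hle').op) h0
    rw [map_zero, ← CommRingCat.comp_apply, ← Functor.map_comp] at h2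
    exact h2
  obtain ⟨⟨_, k, rfl⟩, hk⟩ := (IsLocalization.map_eq_zero_iff (Submonoid.powers A') _ _).1 h1
  have hg : Z.presheaf.germ W' y hyW' (A' ^ k * Z.presheaf.map (homOfLE hle).op h) = 0 := by
    rw [show A' ^ k * Z.presheaf.map (homOfLE hle).op h = 0 from hk, map_zero]
  rw [map_mul, map_pow, Z.presheaf.germ_res_apply, Z.presheaf.germ_res_apply] at hg
  exact ((hA y (hle.trans hWV hyW')).pow k).right_eq_zero_of_smul (by rw [smul_eq_mul]; exact hg)

variable (f : Z ⟶ S) [Smooth f] (U : Z.Opens)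
  (hU : ∀ x : Z, x ∉ U → (2 : WithBot ℕ∞) ≤ ringKrullDim ↑(CInt.fiberStalk f x))

include hU in
/-- A big open is schematically dense. -/
theorem isSchematicallyDense : CInt.IsSchematicallyDense U := fun V => by
  refine (injective_iff_map_eq_zero _).2 fun s hs => ?_
  refine TopCat.Presheaf.section_ext Z.sheaf V s 0 fun x hx => ?_
  show Z.presheaf.germ V x hx s = Z.presheaf.germ V x hx 0
  rw [map_zero]
  by_cases hxU : x ∈ U
  · rw [← Z.presheaf.germ_res_apply (homOfLE (inf_le_left : V ⊓ U ≤ V)) x ⟨hx, hxU⟩ s]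
    erw [hs, map_zero]
  · obtain ⟨V', hV', hxV', hle, A, B, hA, -, hreg⟩ := exists_chart f U hU x hxU V hx
    have hz : Z.presheaf.map (homOfLE hle).op s = 0 :=
      eq_zero_of_basicOpen A (fun y hy => ((isWeaklyRegular_cons_iff _ _ _).1 (hreg y hy)).1) le_rfl _
        (D := Z.basicOpen A) (inf_eq_right.2 (Z.basicOpen_le A)).symm (by
          have hle2 : Z.basicOpen A ≤ V ⊓ U := le_inf ((Z.basicOpen_le A).trans hle) hA
          have h2 := congrArg (Z.presheaf.map (homOfLE hle2).op) hs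
          rw [map_zero, ← CommRingCat.comp_apply, ← Functor.map_comp] at h2
          rw [← CommRingCat.comp_apply, ← Functor.map_comp]
          exact h2)
    rw [← Z.presheaf.germ_res_apply (homOfLE hle) x hxV' s, hz, map_zero]

/-- Elements that are divisible in all local rings are divisible. -/
theorem dvd_of_dvd_germ {V : Z.Opens} (hV : IsAffineOpen V) (a c : Γ(Z, V))
    (h : ∀ (y : Z) (hy : y ∈ V), Z.presheaf.germ V y hy c ∣ Z.presheaf.germ V y hy a) : c ∣ a := by
  rw [← Ideal.mem_span_singleton]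
  let q : Ideal Γ(Z, V) := (Ideal.span {c}).colon ({a} : Set Γ(Z, V))
  suffices hq : q = ⊤ by
    have := Submodule.mem_colon_singleton.1 (show (1 : Γ(Z, V)) ∈ q by rw [hq]; trivial)
    simpa using this
  by_contra hne
  obtain ⟨M, hM, hle⟩ := Ideal.exists_le_maximal q hne
  let P : PrimeSpectrum Γ(Z, V) := ⟨M, hM.isPrime⟩
  have hy : hV.fromSpec P ∈ V := by
    have h : hV.fromSpec P ∈ Set.range hV.fromSpec := ⟨P, rfl⟩
    rwa [hV.range_fromSpec] at h
  letI := TopCat.Presheaf.algebra_section_stalk Z.presheaf ⟨hV.fromSpec P, hy⟩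
  haveI : IsLocalization.AtPrime (Z.presheaf.stalk (hV.fromSpec P)) M := hV.isLocalization_stalk' P hy
  obtain ⟨d, hd⟩ := h _ hy
  obtain ⟨⟨e, t⟩, he⟩ := IsLocalization.surj M.primeCompl d
  have h1 : algebraMap Γ(Z, V) (Z.presheaf.stalk (hV.fromSpec P)) (a * t) =
      algebraMap Γ(Z, V) _ (c * e) := by
    rw [map_mul, map_mul, ← he, ← mul_assoc]
    exact congrArg (· * _) hd
  obtain ⟨w, hw⟩ := (IsLocalization.eq_iff_exists M.primeCompl _).1 h1
  refine (mul_mem w.2 t.2 : _ ∈ M.primeCompl) (hle (Submodule.mem_colon_singleton.2 ?_))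
  rw [Ideal.mem_span_singleton, smul_eq_mul]
  exact ⟨(w : Γ(Z, V)) * e, by linear_combination hw⟩

include hU in
/-- Sections on a big open extend. -/
theorem exists_extension (V : Z.Opens) (g : Γ(Z, V ⊓ U)) :
    ∃ s : Γ(Z, V), Z.presheaf.map (homOfLE (inf_le_left : V ⊓ U ≤ V)).op s = g := by
  classical
  -- extension near each point
  have hloc : ∀ x : V, ∃ (V' : Z.Opens) (_ : x.1 ∈ V') (hle : V' ≤ V) (s : Γ(Z, V')),
      Z.presheaf.map (homOfLE (inf_le_left : V' ⊓ U ≤ V')).op s =
        Z.presheaf.map (homOfLE (inf_le_inf_right U hle)).op g := by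
    rintro ⟨x, hx⟩
    by_cases hxU : x ∈ U
    · refine ⟨V ⊓ U, ⟨hx, hxU⟩, inf_le_left, g, rfl⟩
    obtain ⟨V', hV', hxV', hle, A, B, hA, hB, hreg⟩ := exists_chart f U hU x hxU V hx
    haveI := hV'.isLocalization_basicOpen A
    haveI := hV'.isLocalization_basicOpen B
    haveI := hV'.isLocalization_basicOpen (A * B)
    have hlA : Z.basicOpen A ≤ V ⊓ U := le_inf ((Z.basicOpen_le A).trans hle) hA
    have hlB : Z.basicOpen B ≤ V ⊓ U := le_inf ((Z.basicOpen_le B).trans hle) hB
    obtain ⟨⟨a, ⟨_, k, rfl⟩⟩, hak⟩ := IsLocalization.surj (Submonoid.powers A)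
      (Z.presheaf.map (homOfLE hlA).op g : Γ(Z, Z.basicOpen A))
    obtain ⟨⟨b, ⟨_, l, rfl⟩⟩, hbl⟩ := IsLocalization.surj (Submonoid.powers B)
      (Z.presheaf.map (homOfLE hlB).op g : Γ(Z, Z.basicOpen B))
    have hABA : Z.basicOpen (A * B) ≤ Z.basicOpen A := by rw [Scheme.basicOpen_mul]; exact inf_le_left
    have hABB : Z.basicOpen (A * B) ≤ Z.basicOpen B := by rw [Scheme.basicOpen_mul]; exact inf_le_right
    have h0 : algebraMap Γ(Z, V') Γ(Z, Z.basicOpen (A * B)) (B ^ l * a) =
        algebraMap Γ(Z, V') Γ(Z, Z.basicOpen (A * B)) (A ^ k * b) := by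
      let γ : Γ(Z, Z.basicOpen (A * B)) := Z.presheaf.map (homOfLE (hABA.trans hlA)).op g
      have ea : γ * algebraMap Γ(Z, V') _ (A ^ k) = algebraMap Γ(Z, V') _ a := by
        have := congrArg (Z.presheaf.map (homOfLE hABA).op) hak
        rw [map_mul] at this
        simp only [RingHom.algebraMap_toAlgebra, ← CommRingCat.comp_apply, ← Functor.map_comp] at this ⊢
        exact this
      have eb : γ * algebraMap Γ(Z, V') _ (B ^ l) = algebraMap Γ(Z, V') _ b := by
        have := congrArg (Z.presheaf.map (homOfLE hABB).op) hbl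
        rw [map_mul] at this
        simp only [RingHom.algebraMap_toAlgebra, ← CommRingCat.comp_apply, ← Functor.map_comp] at this ⊢
        exact this
      rw [map_mul, map_mul, ← ea, ← eb]; ring
    obtain ⟨⟨_, m, rfl⟩, hm⟩ := (IsLocalization.eq_iff_exists (Submonoid.powers (A * B)) _).1 h0
    have hdvd : A ^ k ∣ a := dvd_of_dvd_germ hV' a (A ^ k) fun y hy => by
      have hp := DepthTwoExtLib.regPair_of_isWeaklyRegular (hreg y hy)
      obtain ⟨e, he⟩ := Nat.exists_eq_add_of_le (show k ≤ k + (l + m) from Nat.le_add_right _ _)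
      have hg := congrArg (Z.presheaf.germ V' y hy) hm
      simp only [map_mul, map_pow, mul_pow] at hg
      set α := Z.presheaf.germ V' y hy A
      set β := Z.presheaf.germ V' y hy B
      have h1 : β ^ (l + m) * Z.presheaf.germ V' y hy a = α ^ k * (β ^ m * Z.presheaf.germ V' y hy b) := by
        refine sub_eq_zero.1 ((hp.pow m).1 _ ?_)
        linear_combination hg
      obtain ⟨z, hz⟩ := (hp.pow (k + (l + m))).2 (α ^ (l + m) * Z.presheaf.germ V' y hy a)
        (β ^ (k + m) * Z.presheaf.germ V' y hy b) (by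
          linear_combination (β ^ k * α ^ (l + m)) * h1)
      rw [map_pow]
      refine ⟨z, sub_eq_zero.1 ((hp.pow (l + m)).1 _ ?_)⟩
      linear_combination hz
    obtain ⟨z, rfl⟩ := hdvd
    refine ⟨V', hxV', hle, z, sub_eq_zero.1 ?_⟩
    refine eq_zero_of_basicOpen A (fun y hy => ((isWeaklyRegular_cons_iff _ _ _).1 (hreg y hy)).1) inf_le_left _
      (D := Z.basicOpen A) (le_antisymm (le_inf (le_inf (Z.basicOpen_le A) hA) le_rfl) inf_le_right) ?_
    have hu : IsUnit (algebraMap Γ(Z, V') Γ(Z, Z.basicOpen A) A ^ k) :=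
      (IsLocalization.Away.algebraMap_isUnit A).pow k
    have e : algebraMap Γ(Z, V') Γ(Z, Z.basicOpen A) z = Z.presheaf.map (homOfLE hlA).op g := by
      refine hu.mul_left_cancel ?_
      simp only [map_pow, map_mul] at hak
      rw [← hak, mul_comm]
    rw [map_sub, ← CommRingCat.comp_apply, ← Functor.map_comp, ← CommRingCat.comp_apply, ← Functor.map_comp,
      sub_eq_zero]
    exact e
  choose W hxW hWV sW hsW using hloc
  have hcov : V ≤ iSup W := fun x hx => Opens.mem_iSup.2 ⟨⟨x, hx⟩, hxW _⟩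
  have hcomp : TopCat.Presheaf.IsCompatible Z.sheaf.1 W sW := fun i j => by
    refine isSchematicallyDense f U hU (W i ⊓ W j) ?_
    have hi := congrArg (Z.presheaf.map (homOfLE (inf_le_inf_right U inf_le_left :
      W i ⊓ W j ⊓ U ≤ W i ⊓ U)).op) (hsW i)
    have hj := congrArg (Z.presheaf.map (homOfLE (inf_le_inf_right U inf_le_right :
      W i ⊓ W j ⊓ U ≤ W j ⊓ U)).op) (hsW j)
    simp only [← CommRingCat.comp_apply, ← Functor.map_comp] at hi hj
    show Z.presheaf.map _ (Z.presheaf.map _ (sW i)) = Z.presheaf.map _ (Z.presheaf.map _ (sW j))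
    simp only [← CommRingCat.comp_apply, ← Functor.map_comp]
    exact hi.trans hj.symm
  obtain ⟨s, hs, -⟩ := TopCat.Sheaf.existsUnique_gluing' Z.sheaf W V (fun i => homOfLE (hWV i)) hcov sW hcomp
  refine ⟨s, TopCat.Sheaf.eq_of_locally_eq' Z.sheaf (fun i => W i ⊓ U) (V ⊓ U)
    (fun i => homOfLE (inf_le_inf_right U (hWV i))) ?_ _ _ fun i => ?_⟩
  · exact fun x hx => Opens.mem_iSup.2 ⟨⟨x, hx.1⟩, hxW _, hx.2⟩
  · show Z.presheaf.map _ (Z.presheaf.map _ s) = Z.presheaf.map _ g
    rw [← hsW i, ← hs i]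
    show Z.presheaf.map _ (Z.presheaf.map _ s) = Z.presheaf.map _ (Z.presheaf.map _ s)
    simp only [← CommRingCat.comp_apply, ← Functor.map_comp]
    rfl

include hU in
theorem bijective_restrict (V : Z.Opens) :
    Function.Bijective (Z.presheaf.map (homOfLE (inf_le_left : V ⊓ U ≤ V)).op) :=
  ⟨isSchematicallyDense f U hU V, exists_extension f U hU V⟩

end Groth.Agent.RhoShLib
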