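import Groth.Agent.RefOne.Extend
import Groth.Agent.HomLib.Basic
import Groth.Agent.KVbLib.Rank
import Groth.Agent.ExtPowLib.Exist
import Groth.Agent.ExtPowLib.Unique

/-!
# Duals extend across closed subsets where functions extend
-/

set_option autoImplicit false
set_option linter.style.haveILetI false
set_option backward.isDefEq.respectTransparency false
universe u

open CategoryTheory CategoryTheory.Limits AlgebraicGeometry TopologicalSpace Opposite
open Groth.Agent.PullbackMod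

noncomputable section

namespace Groth.Agent.RhoShLib

variable {X : Scheme.{u}} (U : X.Opens) {M N : X.Modules}

theorem homSh_restrict_injective
    (hN : ∀ V : X.Opens, Function.Injective (N.presheaf.map (homOfLE (inf_le_left : V ⊓ U ≤ V)).op)) (V : X.Opens) :
    Function.Injective ((RefHull.homSh M N).presheaf.map (homOfLE (inf_le_left : V ⊓ U ≤ V)).op) := fun f g h => by
  refine HomLib.ext_stalk f g fun x hx => LinearMap.ext fun v => ?_
  obtain ⟨W₀, hxW₀, m₀, rfl⟩ := TopCat.Presheaf.exists_germ_eq M.presheaf v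
  rw [← M.presheaf.germ_res_apply (homOfLE (inf_le_right : V ⊓ W₀ ≤ W₀)) x ⟨hx, hxW₀⟩ m₀,
    ← HomLib.germ_ev f inf_le_left ⟨hx, hxW₀⟩, ← HomLib.germ_ev g inf_le_left ⟨hx, hxW₀⟩]
  refine congrArg _ (hN _ (HomLib.ext_germ _ _ fun y hy => ?_))
  rw [HomLib.germ_res', HomLib.germ_res', HomLib.germ_ev, HomLib.germ_ev]
  have hfg : f.1 ⟨y, hy.1.1⟩ = g.1 ⟨y, hy.1.1⟩ := congrArg (fun φ => φ.1 ⟨y, ⟨hy.1.1, hy.2⟩⟩) h
  rw [hfg]

theorem homSh_restrict_surjective [Coh.IsQCoh M]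
    (hN : ∀ V : X.Opens, Function.Bijective (N.presheaf.map (homOfLE (inf_le_left : V ⊓ U ≤ V)).op)) (V : X.Opens) :
    Function.Surjective ((RefHull.homSh M N).presheaf.map (homOfLE (inf_le_left : V ⊓ U ≤ V)).op) := fun f => by
  have hloc : ∀ (W : X.Opens) (_ : IsAffineOpen W) (hWV : W ≤ V), ∃ s : Γ(RefHull.homSh M N, W),
      (RefHull.homSh M N).presheaf.map (homOfLE (inf_le_left : W ⊓ U ≤ W)).op s =
        (RefHull.homSh M N).presheaf.map (homOfLE (inf_le_inf_right U hWV)).op f := by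
    intro W hW hWV
    let e := AddEquiv.ofBijective (N.presheaf.map (homOfLE (inf_le_left : W ⊓ U ≤ W)).op).hom (hN W)
    let ψ : Γ(M, W) → Γ(N, W) := fun m => e.symm (HomLib.ev f (inf_le_inf_right U hWV)
      (M.presheaf.map (homOfLE (inf_le_left : W ⊓ U ≤ W)).op m))
    have hψ : ∀ m, N.presheaf.map (homOfLE (inf_le_left : W ⊓ U ≤ W)).op (ψ m) = HomLib.ev f (inf_le_inf_right U hWV)
        (M.presheaf.map (homOfLE (inf_le_left : W ⊓ U ≤ W)).op m) := fun m => e.apply_symm_apply _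
    let φ : Γ(M, W) →ₗ[Γ(X, W)] Γ(N, W) :=
      { toFun := ψ
        map_add' := fun a b => (hN W).1 (by rw [hψ, map_add, map_add, map_add, hψ, hψ])
        map_smul' := fun a m => (hN W).1 (by
          rw [hψ, HomLib.res_smul', map_smul, RingHom.id_apply, HomLib.res_smul', hψ]) }
    obtain ⟨s, hs⟩ := HomLib.ev_surjective hW φ
    refine ⟨s, HomLib.ext_stalk _ _ fun x hx => ?_⟩
    show s.1 ⟨x, hx.1⟩ = f.1 ⟨x, ⟨hWV hx.1, hx.2⟩⟩
    letI := Module.compHom (M.presheaf.stalk x) (X.presheaf.germ W x hx.1).hom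
    letI := Module.compHom (N.presheaf.stalk x) (X.presheaf.germ W x hx.1).hom
    letI : Algebra Γ(X, W) (X.presheaf.stalk x) := TopCat.Presheaf.algebra_section_stalk X.presheaf ⟨x, hx.1⟩
    haveI := hW.isLocalization_stalk ⟨x, hx.1⟩
    haveI := FlatLocus.isLocalizedModule_germL M hW x hx.1
    refine LinearMap.ext fun v => ?_
    obtain ⟨⟨m, t⟩, ht⟩ := IsLocalizedModule.surj (hW.primeIdealOf ⟨x, hx.1⟩).asIdeal.primeCompl
      (FlatLocus.germL M W x hx.1) v
    refine (IsLocalization.map_units (X.presheaf.stalk x) t).smul_left_cancel.1 ?_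
    rw [← map_smul, ← map_smul]
    have hz : algebraMap Γ(X, W) (X.presheaf.stalk x) t.1 • v = M.presheaf.germ W x hx.1 m := ht
    rw [hz, ← HomLib.germ_ev s le_rfl hx.1, hs]
    show N.presheaf.germ W x hx.1 (ψ m) = _
    rw [← N.presheaf.germ_res_apply (homOfLE (inf_le_left : W ⊓ U ≤ W)) x hx (ψ m), hψ, HomLib.germ_ev,
      HomLib.germ_res']
  choose W hW hxW hWV using fun x : V => exists_isAffineOpen_mem_and_subset (X := X) (x := x.1) (U := V) x.2
  choose s hs using fun x => hloc (W x) (hW x) (hWV x)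
  let H := RefHull.homSh M N
  let Sh : TopCat.Sheaf Ab X := ⟨H.presheaf, H.isSheaf⟩
  obtain ⟨t, ht, -⟩ := TopCat.Sheaf.existsUnique_gluing' Sh W V (fun i => homOfLE (hWV i))
    (fun x hx => Opens.mem_iSup.2 ⟨⟨x, hx⟩, hxW _⟩) s fun i j => by
      refine homSh_restrict_injective U (fun V => (hN V).1) (W i ⊓ W j) (HomLib.ext_stalk _ _ fun y hy => ?_)
      have h1 := congrArg (fun φ => φ.1 ⟨y, ⟨hy.1.1, hy.2⟩⟩) (hs i)
      have h2 := congrArg (fun φ => φ.1 ⟨y, ⟨hy.1.2, hy.2⟩⟩) (hs j)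
      exact h1.trans h2.symm
  refine ⟨t, HomLib.ext_stalk _ _ fun x hx => ?_⟩
  have h1 := congrArg (fun φ => φ.1 ⟨x, hxW ⟨x, hx.1⟩⟩) (ht ⟨x, hx.1⟩)
  have h2 := congrArg (fun φ => φ.1 ⟨x, ⟨hxW ⟨x, hx.1⟩, hx.2⟩⟩) (hs ⟨x, hx.1⟩)
  exact h1.trans h2

omit M N in
theorem isIso_unit_of_bijective (F : X.Modules)
    (hF : ∀ V : X.Opens, Function.Bijective (F.presheaf.map (homOfLE (inf_le_left : V ⊓ U ≤ V)).op)) :
    IsIso ((Scheme.Modules.restrictAdjunction U.ι).unit.app F) := by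
  refine Scheme.Modules.Hom.isIso_iff_isIso_app.2 fun V => ?_
  rw [ConcreteCategory.isIso_iff_bijective]
  have hfac : ∀ (V' : X.Opens) (h : V' ≤ V), V' = V ⊓ U →
      Function.Bijective (F.presheaf.map (homOfLE h).op) := by
    rintro V' h rfl
    exact hF V
  exact hfac (U.ι ''ᵁ (U.ι ⁻¹ᵁ V)) (U.ι.image_preimage_le V)
    (by rw [Scheme.Hom.image_preimage_eq_opensRange_inf, Scheme.Opens.opensRange_ι, inf_comm])

theorem isIso_unit_homSh [Coh.IsQCoh M]
    (hN : ∀ V : X.Opens, Function.Bijective (N.presheaf.map (homOfLE (inf_le_left : V ⊓ U ≤ V)).op)) :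
    IsIso ((Scheme.Modules.restrictAdjunction U.ι).unit.app (RefHull.homSh M N)) :=
  isIso_unit_of_bijective U (RefHull.homSh M N) fun V =>
    ⟨homSh_restrict_injective U (fun V => (hN V).1) V, homSh_restrict_surjective U hN V⟩

/-- An exterior power of a module free on an open has reflexive stalks there. -/
theorem isReflexiveAt_extPow {h : ℕ} {E L : X.Modules} [Coh.IsQCoh L] (hL : ExtPow.IsExtPow h E L)
    (hE : FlatMod.IsFinLocFree (E.restrict U.ι)) (x : U) : RefHull.IsReflexiveAt L x.1 := by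
  obtain ⟨D, hD, hxD, ⟨e⟩⟩ := KVb.exists_free_sections hE x
  obtain ⟨φ, -⟩ := hL
  let D' : X.Opens := U.ι ''ᵁ D
  have hD' : IsAffineOpen D' := hD.image_of_isOpenImmersion U.ι
  have hx' : x.1 ∈ D' := ⟨x, hxD, rfl⟩
  have hsm : ∀ (a : Γ(U.toScheme, D)) (m : Γ(E.restrict U.ι, D)),
      (a • m : Γ(E.restrict U.ι, D)) = ((show Γ(X, D') from a) • (show Γ(E, D') from m) : Γ(E, D')) := fun a m => by
    show ((U.ι.appIso D).inv a) • (show Γ(E, D') from m) = _
    rw [Scheme.Opens.ι_appIso]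
    rfl
  let e' : Γ(E, D') ≃ₗ[Γ(X, D')] (Fin _ → Γ(X, D')) :=
    { e.toAddEquiv with
      map_smul' := fun a m => (congrArg e (hsm a m).symm).trans (e.map_smul a m) }
  haveI : Module.Free Γ(X, D') Γ(E, D') := Module.Free.of_equiv e'.symm
  haveI : Module.Finite Γ(X, D') Γ(E, D') := Module.Finite.equiv e'.symm
  let ψ : Γ(L, D') ≃ₗ[Γ(X, D')] ↥(⋀[Γ(X, D')]^h Γ(E, D')) := φ ⟨D', hD'⟩
  haveI := Module.Free.of_equiv ψ.symm
  haveI := Module.Finite.equiv ψ.symm
  obtain ⟨e'⟩ := KVb.freeAt_of_free_sections (M := L) hD' hx' rfl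
  haveI := Module.Free.of_equiv e'.symm
  haveI := Module.Finite.equiv e'.symm
  exact inferInstanceAs (Module.IsReflexive (X.presheaf.stalk x.1) (L.presheaf.stalk x.1))

end Groth.Agent.RhoShLib
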